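import Mathlib
import Groth.Agent.DRingLib.PCRestrict
import Groth.Agent.DRingLib.PCGen
import Groth.Agent.FlatMorPerfect.Hom
import Groth.Prelude.Def_DerCA

/-!
# Relative pseudo-coherence: independence of the presentation
-/

set_option autoImplicit false
set_option backward.isDefEq.respectTransparency false
set_option backward.defeqAttrib.useBackward true

universe u

open CategoryTheory CategoryTheory.Limits MvPolynomial

attribute [local instance] HasDerivedCategory.standard

namespace Groth.Agent.RelPC

open Groth.Agent.DRingLib Groth.Agent.FlatMorPerfect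

variable {R A B C : Type u} [CommRing R] [CommRing A] [CommRing B] [CommRing C]

/-- Restriction along a composite. -/
noncomputable def restrictCompIso (f : A →+* B) (g : B →+* C) (h : A →+* C) (e : h = g.comp f) (K : Dual.D C) :
    (DRing.restrictD h).obj K ≅ (DRing.restrictD f).obj ((DRing.restrictD g).obj K) :=
  let L := DerivedCategory.Q.objPreimage K
  let ε : DerivedCategory.Q.obj L ≅ K := DerivedCategory.Q.objObjPreimageIso K
  (DRing.restrictD h).mapIso ε.symm ≪≫ ((ModuleCat.restrictScalars.{u} h).mapDerivedCategoryFactors).app L ≪≫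
    DerivedCategory.Q.mapIso ((NatIso.mapHomologicalComplex (ModuleCat.restrictScalarsComp'.{u} f g h e)
      (ComplexShape.up ℤ)).app L) ≪≫
    (((ModuleCat.restrictScalars.{u} f).mapDerivedCategoryFactors).app
      (((ModuleCat.restrictScalars.{u} g).mapHomologicalComplex (ComplexShape.up ℤ)).obj L)).symm ≪≫
    (DRing.restrictD f).mapIso ((((ModuleCat.restrictScalars.{u} g).mapDerivedCategoryFactors).app L).symm ≪≫
      (DRing.restrictD g).mapIso ε)

theorem pcs_module {φ : A →+* B} (h : PCS φ) (m : ℤ) :
    DRing.IsPseudoCoherentModule A m ((ModuleCat.restrictScalars.{u} φ).obj (ModuleCat.of B B)) := by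
  letI := φ.toAlgebra
  have e : B ≃ₗ[A] ((ModuleCat.restrictScalars.{u} φ).obj (ModuleCat.of B B)) :=
    { AddEquiv.refl B with map_smul' := fun a b => Algebra.smul_def a b }
  exact pc_mono (by omega : -((-m).toNat : ℤ) ≤ m) (pc_congr e (h (-m).toNat))

/-- Restriction along a map with pseudo-coherent target. -/
theorem pc_restrict_iff_of_pcs {φ : A →+* B} (h : PCS φ) (K : Dual.D B) (m : ℤ) :
    DRing.IsPseudoCoherent A m ((DRing.restrictD φ).obj K) ↔ DRing.IsPseudoCoherent B m K :=
  (pc_restrict_iff (φ := φ) (pcs_module h) K m).symm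

theorem pc_restrict_comp_iff {f : A →+* B} (hf : PCS f) (g : B →+* C) (h : A →+* C) (e : h = g.comp f)
    (K : Dual.D C) (m : ℤ) :
    DRing.IsPseudoCoherent A m ((DRing.restrictD h).obj K) ↔
      DRing.IsPseudoCoherent B m ((DRing.restrictD g).obj K) := by
  rw [← pc_restrict_iff_of_pcs hf]
  exact ⟨pc_iso (restrictCompIso f g h e K), pc_iso (restrictCompIso f g h e K).symm⟩

attribute [local instance] MvPolynomial.algebraMvPolynomial in
/-- Independence of the presentation, asymmetric form with extra variables. -/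
theorem pc_restrict_eval₂_iff {φ : A →+* B} (hφ : Function.Surjective φ) {k : ℕ} (g : Fin k → B) (K : Dual.D B)
    (m : ℤ) : DRing.IsPseudoCoherent (MvPolynomial (Fin k) A) m ((DRing.restrictD (eval₂Hom φ g)).obj K) ↔
      DRing.IsPseudoCoherent A m ((DRing.restrictD φ).obj K) := by
  choose g' hg' using fun i => hφ (g i)
  exact pc_restrict_comp_iff (pcs_eval g') φ (eval₂Hom φ g)
    (MvPolynomial.ringHom_ext (fun r => by simp) fun i => by simp [hg']) K m

variable [Algebra R A]

/-- Independence of the presentation. -/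
theorem via_iff {n k : ℕ} (α : MvPolynomial (Fin n) R →ₐ[R] A) (hα : Function.Surjective α)
    (β : MvPolynomial (Fin k) R →ₐ[R] A) (hβ : Function.Surjective β) (K : Dual.D A) (m : ℤ) :
    DerCA.IsRelPseudoCoherentVia α m K ↔ DerCA.IsRelPseudoCoherentVia β m K := by
  let g : Fin k → A := fun i => β (X i)
  let g' : Fin n → A := fun i => α (X i)
  have e : eval₂Hom (α : MvPolynomial (Fin n) R →+* A) g =
      (eval₂Hom (β : MvPolynomial (Fin k) R →+* A) g').comp (swapEquiv n k R).toRingHom := by
    refine MvPolynomial.ringHom_ext (fun p => ?_) fun i => ?_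
    · induction p using MvPolynomial.induction_on with
      | C a => simp [swapEquiv, ← MvPolynomial.algebraMap_eq]
      | add p q hp hq => simp_all
      | mul_X p i hp => simp_all [swapEquiv, g']
    · simp [swapEquiv, g]
  refine (pc_restrict_eval₂_iff (φ := (α : MvPolynomial (Fin n) R →+* A)) hα g K m).symm.trans ?_
  rw [pc_restrict_comp_iff (pcs_equiv (swapEquiv n k R)) _ _ e K m]
  exact pc_restrict_eval₂_iff (φ := (β : MvPolynomial (Fin k) R →+* A)) hβ g' K m

theorem rel_iff {n : ℕ} (α : MvPolynomial (Fin n) R →ₐ[R] A) (hα : Function.Surjective α) (K : Dual.D A)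
    (m : ℤ) : DerCA.IsRelPseudoCoherent R A m K ↔ DerCA.IsRelPseudoCoherentVia α m K :=
  ⟨fun ⟨_, β, hβ, h⟩ => (via_iff α hα β hβ K m).2 h, fun h => ⟨n, α, hα, h⟩⟩

theorem exists_presentation [Algebra.FiniteType R A] :
    ∃ (n : ℕ) (α : MvPolynomial (Fin n) R →ₐ[R] A), Function.Surjective α :=
  Algebra.FiniteType.iff_quotient_mvPolynomial''.1 ‹_›

/-- Restriction of a module placed in degree zero. -/
noncomputable def restrictInD (φ : A →+* B) (M : ModuleCat.{u} B) :
    (DRing.restrictD φ).obj (Dual.inD B M) ≅ Dual.inD A ((ModuleCat.restrictScalars.{u} φ).obj M) :=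
  ((ModuleCat.restrictScalars.{u} φ).mapDerivedCategorySingleFunctor 0).app M

theorem relModule_iff {n : ℕ} (α : MvPolynomial (Fin n) R →ₐ[R] A) (hα : Function.Surjective α)
    (M : ModuleCat.{u} A) (m : ℤ) : DerCA.IsRelPseudoCoherentModule R A m M ↔
      DRing.IsPseudoCoherentModule (MvPolynomial (Fin n) R) m
        ((ModuleCat.restrictScalars.{u} (α : MvPolynomial (Fin n) R →+* A)).obj M) :=
  (rel_iff α hα _ m).trans ⟨pc_iso (restrictInD (α : MvPolynomial (Fin n) R →+* A) M),
    pc_iso (restrictInD (α : MvPolynomial (Fin n) R →+* A) M).symm⟩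

end Groth.Agent.RelPC
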