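import Groth.Agent.RelPC.Ops

/-!
# Relative pseudo-coherence along finite maps
-/

set_option autoImplicit false
set_option backward.isDefEq.respectTransparency false
set_option backward.defeqAttrib.useBackward true

universe u

open CategoryTheory CategoryTheory.Limits MvPolynomial

attribute [local instance] HasDerivedCategory.standard

namespace Groth.Agent.RelPC

open Groth.Agent.DRingLib Groth.Agent.FlatMorPerfect

variable {P B : Type u} [CommRing P] [CommRing B]

theorem pcs_adjoinRoot {f : Polynomial P} (hf : f.Monic) : PCS (AdjoinRoot.of f) := by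
  haveI := hf.finite_adjoinRoot
  haveI := hf.free_adjoinRoot
  exact (pcs_iff (AdjoinRoot.algebraMap_eq f)).2 fun k => FlatMorPerfect.pc_free k

theorem pcs_adjoinRoot_mk {f : Polynomial P} (hf : f.Monic) : PCS (AdjoinRoot.mk f) :=
  pcs_of_ker AdjoinRoot.mk_surjective f hf.isRegular.left (Ideal.mk_ker)

/-- Adjoining one integral element. -/
theorem pc_restrict_polynomial_iff {φ : P →+* B} {b : B} (hb : φ.IsIntegralElem b) (K : Dual.D B) (m : ℤ) :
    DRing.IsPseudoCoherent (Polynomial P) m ((DRing.restrictD (Polynomial.eval₂RingHom φ b)).obj K) ↔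
      DRing.IsPseudoCoherent P m ((DRing.restrictD φ).obj K) := by
  obtain ⟨f, hf, h0⟩ := hb
  let h : AdjoinRoot f →+* B := AdjoinRoot.lift φ b h0
  rw [pc_restrict_comp_iff (pcs_adjoinRoot_mk hf) h _ (Polynomial.ringHom_ext (fun r => by simp [h]) (by simp [h])) K m,
    pc_restrict_comp_iff (pcs_adjoinRoot hf) h φ (RingHom.ext fun r => by simp [h]) K m]

/-- Adjoining finitely many integral elements. -/
theorem pc_restrict_integral_iff : ∀ {k : ℕ} (φ : P →+* B) (v : Fin k → B), (∀ i, φ.IsIntegralElem (v i)) →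
    ∀ (K : Dual.D B) (m : ℤ), DRing.IsPseudoCoherent (MvPolynomial (Fin k) P) m
      ((DRing.restrictD (eval₂Hom φ v)).obj K) ↔ DRing.IsPseudoCoherent P m ((DRing.restrictD φ).obj K)
  | 0, φ, v, _, K, m => by
    rw [pc_restrict_comp_iff (pcs_equiv (isEmptyRingEquiv P (Fin 0)).symm) (eval₂Hom φ v) φ
      (RingHom.ext fun r => (eval₂_C φ v r).symm) K m]
  | k + 1, φ, v, hv, K, m => by
    have hint : (eval₂Hom φ fun i : Fin k => v i.succ).IsIntegralElem (v 0) := by
      obtain ⟨f, hf, h0⟩ := hv 0
      refine ⟨f.map C, hf.map _, ?_⟩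
      rw [Polynomial.eval₂_map]
      rwa [show (eval₂Hom φ fun i : Fin k => v i.succ).comp C = φ from RingHom.ext fun r => by simp]
    rw [pc_restrict_comp_iff (pcs_equiv (finSuccEquiv P k).toRingEquiv)
      (Polynomial.eval₂RingHom (eval₂Hom φ fun i : Fin k => v i.succ) (v 0)) (eval₂Hom φ v) ?_ K m,
      pc_restrict_polynomial_iff hint K m, pc_restrict_integral_iff φ _ (fun i => hv i.succ) K m]
    refine MvPolynomial.ringHom_ext (fun r => by simp [finSuccEquiv_apply]) fun i => ?_
    refine Fin.cases ?_ (fun j => ?_) i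
    · simp [finSuccEquiv_X_zero]
    · simp [finSuccEquiv_X_succ]

variable {R A : Type u} [CommRing R] [CommRing A] [Algebra R A]

/-- Presentations in two groups of variables. -/
theorem rel_iff_two {n k : ℕ} (γ : MvPolynomial (Fin k) (MvPolynomial (Fin n) R) →ₐ[R] A)
    (hγ : Function.Surjective γ) (K : Dual.D A) (m : ℤ) : DerCA.IsRelPseudoCoherent R A m K ↔
      DRing.IsPseudoCoherent (MvPolynomial (Fin k) (MvPolynomial (Fin n) R)) m
        ((DRing.restrictD (γ : MvPolynomial (Fin k) (MvPolynomial (Fin n) R) →+* A)).obj K) := by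
  let e : MvPolynomial (Fin k) (MvPolynomial (Fin n) R) ≃ₐ[R] MvPolynomial (Fin (k + n)) R :=
    (sumAlgEquiv R (Fin k) (Fin n)).symm.trans (renameEquiv R finSumFinEquiv)
  rw [rel_iff (γ.comp e.symm.toAlgHom) (hγ.comp e.symm.surjective) K m]
  exact pc_restrict_comp_iff (pcs_equiv e.symm.toRingEquiv) _ _ rfl K m

variable {A' : Type u} [CommRing A'] [Algebra R A'] [Algebra A A'] [IsScalarTower R A A']

theorem rel_restrict_iff [Algebra.FiniteType R A] [Module.Finite A A'] (K : Dual.D A') (m : ℤ) :
    DerCA.IsRelPseudoCoherent R A' m K ↔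
      DerCA.IsRelPseudoCoherent R A m ((DRing.restrictD (algebraMap A A')).obj K) := by
  obtain ⟨n, α, hα⟩ := exists_presentation (R := R) (A := A)
  obtain ⟨k, ψ, hψ⟩ := Algebra.FiniteType.iff_quotient_mvPolynomial''.1
    (inferInstance : Algebra.FiniteType A A')
  let φ : MvPolynomial (Fin n) R →+* A' := (algebraMap A A').comp α.toRingHom
  let v : Fin k → A' := fun i => ψ (X i)
  have hfin : φ.Finite := (RingHom.finite_algebraMap.2 ‹Module.Finite A A'›).comp (RingHom.Finite.of_surjective _ hα)
  let γ : MvPolynomial (Fin k) (MvPolynomial (Fin n) R) →ₐ[R] A' :=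
    { toRingHom := eval₂Hom φ v
      commutes' := fun r => by
        show eval₂Hom φ v (algebraMap R _ r) = algebraMap R A' r
        rw [IsScalarTower.algebraMap_apply R (MvPolynomial (Fin n) R), MvPolynomial.algebraMap_eq, eval₂Hom_C,
          IsScalarTower.algebraMap_apply R A A']
        exact congrArg _ (α.commutes r) }
  have he : eval₂Hom φ v = ψ.toRingHom.comp (MvPolynomial.map α.toRingHom) :=
    MvPolynomial.ringHom_ext (fun p => by simp [φ]) fun i => by simp [v]
  have hγ : Function.Surjective γ := by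
    show Function.Surjective (eval₂Hom φ v)
    rw [he]
    exact hψ.comp (MvPolynomial.map_surjective _ hα)
  rw [rel_iff_two γ hγ K m, rel_iff α hα]
  refine (pc_restrict_integral_iff φ v (fun i => hfin.to_isIntegral (v i)) K m).trans ?_
  exact ⟨pc_iso (restrictCompIso _ _ φ rfl K), pc_iso (restrictCompIso _ _ φ rfl K).symm⟩

end Groth.Agent.RelPC
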