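import Groth.Agent.RelPC.Tensor
import Groth.Agent.RelPC.Finite
import Groth.Agent.CAlgSmall.PCZariski
import Groth.Agent.CAlgSmall.PCBundle
import Groth.Agent.DCat.LPull

/-!
# Relative pseudo-coherence and base change
-/

set_option autoImplicit false
set_option backward.isDefEq.respectTransparency false
set_option backward.defeqAttrib.useBackward true

universe u

open CategoryTheory CategoryTheory.Limits MonoidalCategory TensorProduct

attribute [local instance] HasDerivedCategory.standard

namespace Groth.Agent.RelPC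

open Groth.Agent.DRingLib Groth.Agent.FlatMorPerfect

section Square

variable (P P' A A' : Type u) [CommRing P] [CommRing P'] [CommRing A] [CommRing A']

section Hom

variable (σ : P →+* A) (τ : P →+* P') (φ : A →+* A') (σ' : P' →+* A') (hc : σ'.comp τ = φ.comp σ)

include hc in
/-- The square given by four ring maps is cocartesian. -/
def IsCocartesian : Prop :=
  letI := σ.toAlgebra
  letI := τ.toAlgebra
  letI := φ.toAlgebra
  letI := σ'.toAlgebra
  letI := (φ.comp σ).toAlgebra
  haveI : IsScalarTower P A A' := .of_algebraMap_eq fun _ => rfl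
  haveI : IsScalarTower P P' A' := .of_algebraMap_eq fun x => (RingHom.congr_fun hc x).symm
  Algebra.IsPushout P P' A A'

variable (hp : IsCocartesian P P' A A' σ τ φ σ' hc)

include hp in
/-- Extension of scalars commutes with restriction along a cocartesian square. -/
noncomputable def extRestrictIsoApp (M : ModuleCat.{u} A) :
    (ModuleCat.extendScalars.{u, u, u} τ).obj ((ModuleCat.restrictScalars.{u} σ).obj M) ≅
      (ModuleCat.restrictScalars.{u} σ').obj ((ModuleCat.extendScalars.{u, u, u} φ).obj M) := by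
  letI := σ.toAlgebra
  letI := τ.toAlgebra
  letI := φ.toAlgebra
  letI := σ'.toAlgebra
  letI := (φ.comp σ).toAlgebra
  haveI : IsScalarTower P A A' := .of_algebraMap_eq fun _ => rfl
  haveI : IsScalarTower P P' A' := .of_algebraMap_eq fun x => (RingHom.congr_fun hc x).symm
  haveI : Algebra.IsPushout P P' A A' := hp
  letI : Module P M := Module.compHom M σ
  haveI : IsScalarTower P A M := ⟨fun p a x => mul_smul (σ p) a x⟩
  let e : P' ⊗[P] M ≃ₗ[P'] A' ⊗[A] M := (Algebra.IsPushout.cancelBaseChange P P' A A' M).symm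
  refine LinearEquiv.toModuleIso
    (X₁ := (ModuleCat.extendScalars.{u, u, u} τ).obj ((ModuleCat.restrictScalars.{u} σ).obj M))
    (X₂ := (ModuleCat.restrictScalars.{u} σ').obj ((ModuleCat.extendScalars.{u, u, u} φ).obj M))
    { toFun := e, invFun := e.symm, left_inv := e.left_inv, right_inv := e.right_inv,
      map_add' := e.map_add, map_smul' := fun r x => ?_ }
  refine (e.map_smul r x).trans ?_
  exact (algebraMap_smul A' r (e x)).symm

include hp in
/-- The same, naturally. -/
noncomputable def extRestrictIso :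
    ModuleCat.restrictScalars.{u} σ ⋙ ModuleCat.extendScalars.{u, u, u} τ ≅
      ModuleCat.extendScalars.{u, u, u} φ ⋙ ModuleCat.restrictScalars.{u} σ' :=
  NatIso.ofComponents (extRestrictIsoApp P P' A A' σ τ φ σ' hc hp) fun {M N} g => by
    letI := σ.toAlgebra
    letI := τ.toAlgebra
    letI := φ.toAlgebra
    letI := σ'.toAlgebra
    letI := (φ.comp σ).toAlgebra
    haveI : IsScalarTower P A A' := .of_algebraMap_eq fun _ => rfl
    haveI : IsScalarTower P P' A' := .of_algebraMap_eq fun x => (RingHom.congr_fun hc x).symm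
    haveI : Algebra.IsPushout P P' A A' := hp
    letI : Module P M := Module.compHom M σ
    letI : Module P N := Module.compHom N σ
    haveI : IsScalarTower P A M := ⟨fun p a x => mul_smul (σ p) a x⟩
    haveI : IsScalarTower P A N := ⟨fun p a x => mul_smul (σ p) a x⟩
    refine ModuleCat.ExtendScalars.hom_ext fun x => ?_
    show (Algebra.IsPushout.cancelBaseChange P P' A A' N).symm ((1 : P') ⊗ₜ[P] g.hom x) =
      ((ModuleCat.extendScalars.{u, u, u} φ).map g).hom
        ((Algebra.IsPushout.cancelBaseChange P P' A A' M).symm ((1 : P') ⊗ₜ[P] x))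
    rw [Algebra.IsPushout.cancelBaseChange_symm_tmul, Algebra.IsPushout.cancelBaseChange_symm_tmul]
    rfl

end Hom

variable [Algebra P P'] [Algebra P A] [Algebra A A'] [Algebra P' A'] [Algebra P A'] [IsScalarTower P A A']
  [IsScalarTower P P' A'] [hpo : Algebra.IsPushout P P' A A']

theorem algebraMap_comp_eq : (algebraMap P' A').comp (algebraMap P P') = (algebraMap A A').comp (algebraMap P A) := by
  rw [← IsScalarTower.algebraMap_eq, ← IsScalarTower.algebraMap_eq]

include hpo in
theorem isCocartesian : IsCocartesian P P' A A' (algebraMap P A) (algebraMap P P') (algebraMap A A')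
    (algebraMap P' A') (algebraMap_comp_eq P P' A A') := by
  unfold IsCocartesian
  convert hpo using 0
  congr! 1
  all_goals exact Algebra.algebra_ext _ _ fun x => by first | rfl | exact (IsScalarTower.algebraMap_apply P A A' x).symm

/-- Flat base change. -/
theorem pc_ext_of_flat [Module.Flat P P'] (L : DRing.Cx A) (m : ℤ)
    (h : DRing.IsPseudoCoherent P m ((DRing.restrictD (algebraMap P A)).obj (DRing.toD L))) :
    DRing.IsPseudoCoherent P' m ((DRing.restrictD (algebraMap P' A')).obj (DRing.toD
      (((ModuleCat.extendScalars.{u, u, u} (algebraMap A A')).mapHomologicalComplex (ComplexShape.up ℤ)).obj L))) := by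
  have hflat : (algebraMap P P').Flat := RingHom.flat_algebraMap_iff.2 inferInstance
  haveI : DRing.HasLBaseChange (algebraMap P P') := DCat.hasLBaseChange _
  obtain ⟨e⟩ := CAlgSmall.PCZariski.nonempty_lbaseChange_iso (algebraMap P P') hflat ((resK (algebraMap P A)).obj L)
  have h1 := pc_iso e (CAlgSmall.PCBundle.pc_lbaseChange (algebraMap P P')
    (pc_iso (((ModuleCat.restrictScalars.{u} (algebraMap P A)).mapDerivedCategoryFactors).app L) h))
  exact pc_iso (DerivedCategory.Q.mapIso
    ((NatIso.mapHomologicalComplex (extRestrictIso P P' A A' _ _ _ _ _ (isCocartesian P P' A A')) (ComplexShape.up ℤ)).app L) ≪≫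
      (((ModuleCat.restrictScalars.{u} (algebraMap P' A')).mapDerivedCategoryFactors).app
        (((ModuleCat.extendScalars.{u, u, u} (algebraMap A A')).mapHomologicalComplex (ComplexShape.up ℤ)).obj L)).symm) h1

end Square

variable {R A B : Type u} [CommRing R] [CommRing A] [CommRing B] [Algebra R A] [Algebra A B] [Algebra R B]
  [IsScalarTower R A B]

theorem pcs_of_relModuleAll {n : ℕ} (α : MvPolynomial (Fin n) R →ₐ[R] A) (hα : Function.Surjective α)
    (h : DerCA.IsRelPseudoCoherentModuleAll R A A) : PCS (α : MvPolynomial (Fin n) R →+* A) := fun k => by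
  letI := (α : MvPolynomial (Fin n) R →+* A).toAlgebra
  exact pc_congr (R := MvPolynomial (Fin n) R)
    (P := (ModuleCat.restrictScalars.{u} (α : MvPolynomial (Fin n) R →+* A)).obj (ModuleCat.of A A))
    { AddEquiv.refl A with map_smul' := fun a b => rfl }
    ((relModule_iff α hα (ModuleCat.of A A) _).1 (h _))

/-- The presentation in two groups of variables of a composite. -/
noncomputable def presComp {n k : ℕ} (α : MvPolynomial (Fin n) R →ₐ[R] A)
    (ψ : MvPolynomial (Fin k) A →ₐ[A] B) : MvPolynomial (Fin k) (MvPolynomial (Fin n) R) →ₐ[R] B :=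
  { toRingHom := (ψ : MvPolynomial (Fin k) A →+* B).comp (MvPolynomial.map (α : MvPolynomial (Fin n) R →+* A))
    commutes' := fun r => by
      show ψ (MvPolynomial.map (α : MvPolynomial (Fin n) R →+* A) (algebraMap R _ r)) = algebraMap R B r
      rw [IsScalarTower.algebraMap_apply R (MvPolynomial (Fin n) R), MvPolynomial.algebraMap_eq, MvPolynomial.map_C,
        IsScalarTower.algebraMap_apply R A B, show (α : MvPolynomial (Fin n) R →+* A) (algebraMap R _ r) =
          algebraMap R A r from α.commutes r, ← MvPolynomial.algebraMap_eq, ψ.commutes] }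

theorem rel_iff_comp {n k : ℕ} (α : MvPolynomial (Fin n) R →ₐ[R] A) (hα : Function.Surjective α)
    (ψ : MvPolynomial (Fin k) A →ₐ[A] B) (hψ : Function.Surjective ψ) (K : Dual.D B) (m : ℤ) :
    DerCA.IsRelPseudoCoherent R B m K ↔ DRing.IsPseudoCoherent (MvPolynomial (Fin k) (MvPolynomial (Fin n) R)) m
      ((DRing.restrictD (MvPolynomial.map (α : MvPolynomial (Fin n) R →+* A))).obj
        ((DRing.restrictD (ψ : MvPolynomial (Fin k) A →+* B)).obj K)) := by
  have hγ : Function.Surjective (presComp α ψ) := hψ.comp (MvPolynomial.map_surjective _ hα)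
  rw [rel_iff_two (presComp α ψ) hγ K m]
  have i := restrictCompIso (MvPolynomial.map (σ := Fin k) (α : MvPolynomial (Fin n) R →+* A))
    (ψ : MvPolynomial (Fin k) A →+* B) (presComp α ψ : MvPolynomial (Fin k) (MvPolynomial (Fin n) R) →+* B) rfl K
  exact ⟨pc_iso i, pc_iso i.symm⟩

/-- Change of base along an algebra pseudo-coherent over the base. -/
theorem rel_tower_iff [Algebra.FiniteType R A] [Algebra.FiniteType A B]
    (hA : DerCA.IsRelPseudoCoherentModuleAll R A A) (K : Dual.D B) (m : ℤ) :
    DerCA.IsRelPseudoCoherent A B m K ↔ DerCA.IsRelPseudoCoherent R B m K := by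
  obtain ⟨n, α, hα⟩ := exists_presentation (R := R) (A := A)
  obtain ⟨k, ψ, hψ⟩ := exists_presentation (R := A) (A := B)
  rw [rel_iff_comp α hα ψ hψ, rel_iff ψ hψ,
    pc_restrict_iff_of_pcs (pcs_map (pcs_of_relModuleAll α hα hA) (Fin k))]
  exact Iff.rfl

attribute [local instance] MvPolynomial.algebraMvPolynomial in
/-- Derived base change to an algebra which is pseudo-coherent relative to the source. -/
theorem rel_lbaseChange [Algebra.FiniteType R A] [Algebra.FiniteType A B]
    (hB : DerCA.IsRelPseudoCoherentModuleAll A B B) [DRing.HasLBaseChange (algebraMap A B)]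
    {K : Dual.D A} {m : ℤ} (hK : DerCA.IsRelPseudoCoherent R A m K) :
    DerCA.IsRelPseudoCoherent R B m ((DRing.LBaseChange (algebraMap A B)).obj K) := by
  obtain ⟨n, α, hα⟩ := exists_presentation (R := R) (A := A)
  obtain ⟨k, ψ, hψ⟩ := exists_presentation (R := A) (A := B)
  rw [rel_iff α hα] at hK
  rw [rel_iff_comp α hα ψ hψ]
  obtain ⟨b, hb'⟩ := exists_isLE_of_pc hK
  haveI := (isLE_restrict_iff _ K b).1 hb'
  obtain ⟨L₀, hL₀k, hL₀f, hL₀b, ⟨e⟩⟩ := DCat.exists_flat_rep (b := b) (K := K)
    fun i hi => DerivedCategory.isZero_of_isLE K b i hi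
  letI := (α : MvPolynomial (Fin n) R →+* A).toAlgebra
  let L := ((ModuleCat.extendScalars.{u, u, u} (algebraMap A (MvPolynomial (Fin k) A))).mapHomologicalComplex
    (ComplexShape.up ℤ)).obj L₀
  have hL : DRing.IsPseudoCoherent (MvPolynomial (Fin k) (MvPolynomial (Fin n) R)) m
      ((DRing.restrictD (MvPolynomial.map (α : MvPolynomial (Fin n) R →+* A))).obj (DRing.toD L)) :=
    pc_ext_of_flat (MvPolynomial (Fin n) R) (MvPolynomial (Fin k) (MvPolynomial (Fin n) R)) A
      (MvPolynomial (Fin k) A) L₀ m (pc_iso ((DRing.restrictD _).mapIso e.symm) hK)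
  have hLb : DRing.VanishesAbove L b := fun i hi =>
    (ModuleCat.extendScalars.{u, u, u} (algebraMap A (MvPolynomial (Fin k) A))).map_isZero (hL₀b i hi)
  have hLf : DRing.TermwiseFlat L := fun i => by
    haveI := hL₀f i
    letI := (algebraMap A (MvPolynomial (Fin k) A)).toAlgebra
    exact Module.Flat.baseChange (R := A) (M := L₀.X i) (S := MvPolynomial (Fin k) A)
  have hM : ∀ j, PC (MvPolynomial (Fin k) A) j
      ((ModuleCat.restrictScalars.{u} (ψ : MvPolynomial (Fin k) A →+* B)).obj (ModuleCat.of B B)) := fun j =>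
    (relModule_iff ψ hψ (ModuleCat.of B B) _).1 (hB _)
  refine pc_iso ((DRing.restrictD _).mapIso ?_) (pc_tensD_all _ L hLb hLf hL _ hM)
  refine DerivedCategory.Q.mapIso ((NatIso.mapHomologicalComplex
      ((BraidedCategory.tensorLeftIsoTensorRight _).symm ≪≫ DCat.restrictExtIso (ψ : MvPolynomial (Fin k) A →+* B))
      (ComplexShape.up ℤ)).app L) ≪≫
    (((ModuleCat.restrictScalars.{u} (ψ : MvPolynomial (Fin k) A →+* B)).mapDerivedCategoryFactors).app
      (((ModuleCat.extendScalars.{u, u, u} (ψ : MvPolynomial (Fin k) A →+* B)).mapHomologicalComplex (ComplexShape.up ℤ)).obj L)).symm ≪≫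
    (DRing.restrictD _).mapIso ?_
  refine DerivedCategory.Q.mapIso ((NatIso.mapHomologicalComplex
      (ModuleCat.extendScalarsComp (algebraMap A (MvPolynomial (Fin k) A))
        (ψ : MvPolynomial (Fin k) A →+* B)).symm (ComplexShape.up ℤ)).app L₀) ≪≫ ?_
  refine eqToIso ?_ ≪≫ (DCat.lbaseChangeIso (algebraMap A B) hL₀k).symm ≪≫
    (DRing.LBaseChange (algebraMap A B)).mapIso e
  rw [show (ψ : MvPolynomial (Fin k) A →+* B).comp (algebraMap A (MvPolynomial (Fin k) A)) = algebraMap A B from
    ψ.comp_algebraMap]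

end Groth.Agent.RelPC

namespace Groth.Agent.RelPC

variable {R A B : Type u} [CommRing R] [CommRing A] [CommRing B] [Algebra R A] [Algebra A B] [Algebra R B]
  [IsScalarTower R A B]

theorem nonempty_ext_tensor_iso (M : Type u) [AddCommGroup M] [Module A M] :
    Nonempty ((ModuleCat.extendScalars.{u, u, u} (algebraMap A B)).obj (ModuleCat.of A M) ≅
      ModuleCat.of B (B ⊗[A] M)) := by
  have key : ∀ (φ : A →+* B) (i' : Algebra A B), φ.toAlgebra = i' →
      Nonempty ((ModuleCat.extendScalars.{u, u, u} φ).obj (ModuleCat.of A M) ≅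
        (letI := i'; ModuleCat.of B (B ⊗[A] M))) := by
    rintro φ _ rfl
    exact ⟨Iso.refl _⟩
  exact key (algebraMap A B) _ (Algebra.algebra_ext _ _ fun _ => rfl)

/-- Flat base change of relatively pseudo-coherent modules. -/
theorem relModule_baseChange [Algebra.FiniteType R A] [Algebra.FiniteType A B] [Module.Flat A B]
    (hB : DerCA.IsRelPseudoCoherentModuleAll A B B) {m : ℤ} (M : Type u) [AddCommGroup M] [Module A M]
    (hM : DerCA.IsRelPseudoCoherentModule R A m M) :
    DerCA.IsRelPseudoCoherentModule R B m (B ⊗[A] M) := by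
  haveI : DRing.HasLBaseChange (algebraMap A B) := DCat.hasLBaseChange _
  obtain ⟨e⟩ := Groth.Agent.CAlgSmall.PCZariski.nonempty_lbaseChange_iso (algebraMap A B)
    (RingHom.flat_algebraMap_iff.2 inferInstance)
    ((HomologicalComplex.single (ModuleCat.{u} A) (ComplexShape.up ℤ) 0).obj (ModuleCat.of A M))
  obtain ⟨e'⟩ := nonempty_ext_tensor_iso (A := A) (B := B) M
  refine rel_iso (e ≪≫ DerivedCategory.Q.mapIso
      ((HomologicalComplex.singleMapHomologicalComplex (ModuleCat.extendScalars.{u, u, u} (algebraMap A B))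
        (ComplexShape.up ℤ) 0).app (ModuleCat.of A M) ≪≫
        (HomologicalComplex.single (ModuleCat.{u} B) (ComplexShape.up ℤ) 0).mapIso e') ≪≫
      ((DerivedCategory.singleFunctorIsoCompQ (ModuleCat.{u} B) 0).app _).symm)
    (rel_lbaseChange hB (rel_iso ((DerivedCategory.singleFunctorIsoCompQ (ModuleCat.{u} A) 0).app _) hM))

end Groth.Agent.RelPC
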