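import Mathlib.CategoryTheory.Abelian.LeftDerived
import Mathlib.Algebra.Category.ModuleCat.EnoughInjectives
import Mathlib.Algebra.Category.ModuleCat.Projective
import Groth.Prelude.Def_DDual2

/-!
# Tor-independence along a flat resolution
-/

set_option autoImplicit false
set_option backward.isDefEq.respectTransparency false
set_option backward.defeqAttrib.useBackward true

universe u

open CategoryTheory CategoryTheory.Limits MonoidalCategory TensorProduct Function

namespace Groth.Agent.RelPC.Indep

variable {R : Type u} [CommRing R]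

/-- A flat resolution of a module. -/
structure Res (R : Type u) [CommRing R] (X : Type u) [AddCommGroup X] [Module R X] where
  G : ℕ → ModuleCat.{u} R
  d : ∀ n, (G (n + 1)) →ₗ[R] (G n)
  π : (G 0) →ₗ[R] X
  flat : ∀ n, Module.Flat R (G n)
  exact_d : ∀ n, Exact (d (n + 1)) (d n)
  exact_π : Exact (d 0) π
  surj : Surjective π

variable {X : Type u} [AddCommGroup X] [Module R X] (r : Res R X)

/-- `M ⊗ G` is exact in positive degrees. -/
def Indep (M : Type u) [AddCommGroup M] [Module R M] : Prop :=
  ∀ n, Exact ((r.d (n + 1)).lTensor M) ((r.d n).lTensor M)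

theorem indep_of_flat (M : Type u) [AddCommGroup M] [Module R M] [Module.Flat R M] : Indep r M :=
  fun n => Module.Flat.lTensor_exact M (r.exact_d n)

theorem indep_of_subsingleton (M : Type u) [AddCommGroup M] [Module R M] [Subsingleton M] : Indep r M :=
  fun n y => ⟨fun _ => ⟨0, by
    haveI : Subsingleton (M ⊗[R] r.G (n + 1)) := ⟨fun a b => by
      have h : ∀ a : M ⊗[R] r.G (n + 1), a = 0 := fun a => by
        induction a using TensorProduct.induction_on with
        | zero => rfl
        | tmul x y => rw [Subsingleton.elim x 0, TensorProduct.zero_tmul]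
        | add x y hx hy => rw [hx, hy, add_zero]
      rw [h a, h b]⟩
    exact Subsingleton.elim _ _⟩, fun _ => by
    have h : ∀ a : M ⊗[R] r.G n, a = 0 := fun a => by
      induction a using TensorProduct.induction_on with
      | zero => rfl
      | tmul x y => rw [Subsingleton.elim x 0, TensorProduct.zero_tmul]
      | add x y hx hy => rw [hx, hy, add_zero]
    exact h _⟩

theorem indep_of_flat_algebra {A : Type u} [CommRing A] [Algebra R A] (hA : Indep r A)
    (M : Type u) [AddCommGroup M] [Module R M] [Module A M] [IsScalarTower R A M] [Module.Flat A M] :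
    Indep r M := fun n => by
  have h : Exact ((r.d (n + 1)).baseChange A) ((r.d n).baseChange A) := hA n
  have key : ∀ j, ((r.d j).lTensor M) ∘ₗ (AlgebraTensorModule.cancelBaseChange R A A M (r.G (j + 1))).toLinearMap.restrictScalars R =
      (AlgebraTensorModule.cancelBaseChange R A A M (r.G j)).toLinearMap.restrictScalars R ∘ₗ
        (((r.d j).baseChange A).lTensor M).restrictScalars R := fun j => by
    refine LinearMap.ext fun z => ?_
    induction z using TensorProduct.induction_on with
    | zero => simp
    | add x y hx hy => simp only [map_add, hx, hy]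
    | tmul m t =>
      induction t using TensorProduct.induction_on with
      | zero => simp
      | add x y hx hy => simp only [TensorProduct.tmul_add, map_add, hx, hy]
      | tmul a x => simp
  exact Function.Exact.of_ladder_linearEquiv_of_exact
    (e₁ := (AlgebraTensorModule.cancelBaseChange R A A M (r.G (n + 2))).restrictScalars R)
    (e₂ := (AlgebraTensorModule.cancelBaseChange R A A M (r.G (n + 1))).restrictScalars R)
    (e₃ := (AlgebraTensorModule.cancelBaseChange R A A M (r.G n)).restrictScalars R)
    (key (n + 1)) (key n) (Module.Flat.lTensor_exact (R := A) M h)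

section Kernel

variable {Z C W : Type u} [AddCommGroup Z] [Module R Z] [AddCommGroup C] [Module R C] [AddCommGroup W] [Module R W]
  {f : Z →ₗ[R] C} {g : C →ₗ[R] W}

theorem exists_lift (hf : Injective f) (hfg : Exact f g) (hg : Surjective g) (hW : Indep r W) (m : ℕ)
    (a : Z ⊗[R] r.G m) (c : C ⊗[R] r.G (m + 1)) (h : (r.d m).lTensor C c = f.rTensor (r.G m) a) :
    ∃ a', (r.d m).lTensor Z a' = a := by
  haveI := r.flat m
  have h1 : (r.d m).lTensor W (g.rTensor _ c) = 0 := by
    rw [← LinearMap.comp_apply, LinearMap.lTensor_comp_rTensor, ← LinearMap.rTensor_comp_lTensor,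
      LinearMap.comp_apply, h, ← LinearMap.comp_apply, ← LinearMap.rTensor_comp, hfg.linearMap_comp_eq_zero]
    simp
  obtain ⟨e, he⟩ := (hW m _).1 h1
  obtain ⟨e', rfl⟩ := LinearMap.rTensor_surjective _ hg e
  have h2 : g.rTensor _ (c - (r.d (m + 1)).lTensor C e') = 0 := by
    rw [map_sub, ← he, sub_eq_zero]
    rw [← LinearMap.comp_apply, ← LinearMap.comp_apply, LinearMap.lTensor_comp_rTensor, LinearMap.rTensor_comp_lTensor]
  obtain ⟨a', ha'⟩ := (rTensor_exact (r.G (m + 1)) hfg hg _).1 h2
  refine ⟨a', Module.Flat.rTensor_preserves_injective_linearMap f hf ?_⟩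
  rw [← LinearMap.comp_apply, LinearMap.rTensor_comp_lTensor, ← LinearMap.lTensor_comp_rTensor,
    LinearMap.comp_apply, ha', map_sub, h, sub_eq_self, ← LinearMap.comp_apply, ← LinearMap.lTensor_comp,
    (r.exact_d m).linearMap_comp_eq_zero]
  simp

theorem indep_kernel (hf : Injective f) (hfg : Exact f g) (hg : Surjective g) (hC : Indep r C) (hW : Indep r W) :
    Indep r Z := fun n => by
  refine fun a => ⟨fun ha => ?_, ?_⟩
  · obtain ⟨c, hc⟩ := (hC n (f.rTensor _ a)).1 (by
      rw [← LinearMap.comp_apply, LinearMap.lTensor_comp_rTensor, ← LinearMap.rTensor_comp_lTensor,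
        LinearMap.comp_apply, ha, map_zero])
    exact exists_lift r hf hfg hg hW (n + 1) a c hc
  · rintro ⟨b, rfl⟩
    rw [← LinearMap.comp_apply, ← LinearMap.lTensor_comp, (r.exact_d n).linearMap_comp_eq_zero]
    simp

include r in
theorem rTensor_injective (hf : Injective f) (hfg : Exact f g) (hg : Surjective g) (hW : Indep r W) :
    Injective (f.rTensor X) := by
  rw [injective_iff_map_eq_zero]
  intro z hz
  obtain ⟨a, rfl⟩ := LinearMap.lTensor_surjective Z r.surj z
  rw [← LinearMap.comp_apply, LinearMap.rTensor_comp_lTensor, ← LinearMap.lTensor_comp_rTensor,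
    LinearMap.comp_apply] at hz
  obtain ⟨c, hc⟩ := (lTensor_exact C r.exact_π r.surj _).1 hz
  obtain ⟨a', rfl⟩ := exists_lift r hf hfg hg hW 0 a c hc
  exact (lTensor_exact Z r.exact_π r.surj).apply_apply_eq_zero a'

end Kernel

include r in
/-- A bounded above acyclic complex of independent modules stays acyclic after tensoring. -/
theorem exactAt_tensor (C : CochainComplex (ModuleCat.{u} R) ℤ) (b : ℤ) (hb : ∀ i, b < i → IsZero (C.X i))
    (hac : ∀ i, C.ExactAt i) (hC : ∀ i, Indep r (C.X i)) (i : ℤ) :
    (((tensorRight (ModuleCat.of R X)).mapHomologicalComplex (ComplexShape.up ℤ)).obj C).ExactAt i := by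
  have hex : ∀ i, Exact (C.d (i - 1) i).hom (C.d i (i + 1)).hom := fun i => by
    have := hac i
    rwa [HomologicalComplex.exactAt_iff' (i := i - 1) (j := i) (k := i + 1) _ (by simp) (by simp),
      ShortComplex.ShortExact.moduleCat_exact_iff_function_exact] at this
  let p : ∀ i, C.X i →ₗ[R] LinearMap.ker (C.d (i + 1) (i + 1 + 1)).hom := fun i =>
    LinearMap.codRestrict _ (C.d i (i + 1)).hom fun x => by
      rw [LinearMap.mem_ker]
      exact LinearMap.congr_fun (congrArg ModuleCat.Hom.hom (C.d_comp_d i (i + 1) (i + 1 + 1))) x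
  have hp : ∀ i, Surjective (p i) := fun i ⟨y, hy⟩ => by
    have := hex (i + 1)
    rw [add_sub_cancel_right] at this
    obtain ⟨x, hx⟩ := (this y).1 hy
    exact ⟨x, Subtype.ext hx⟩
  have hker : ∀ i, Exact (LinearMap.ker (C.d i (i + 1)).hom).subtype (p i) := fun i x => by
    constructor
    · intro hx
      exact ⟨⟨x, congrArg Subtype.val hx⟩, rfl⟩
    · rintro ⟨⟨y, hy⟩, rfl⟩
      exact Subtype.ext hy
  have hZ : ∀ (k : ℕ) (i : ℤ), b + 1 - k ≤ i → Indep r (LinearMap.ker (C.d i (i + 1)).hom) := by
    intro k
    induction k with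
    | zero =>
      intro i hi
      haveI := ModuleCat.subsingleton_of_isZero (hb i (by omega))
      exact indep_of_subsingleton r _
    | succ k ih =>
      intro i hi
      exact indep_kernel r (Submodule.injective_subtype _) (hker i) (hp i) (hC i) (ih (i + 1) (by omega))
  have hZ' : ∀ i, Indep r (LinearMap.ker (C.d i (i + 1)).hom) := fun i => hZ (b + 1 - i).toNat i (by omega)
  rw [HomologicalComplex.exactAt_iff' (i := i - 1) (j := i) (k := i + 1) _ (by simp) (by simp),
    ShortComplex.ShortExact.moduleCat_exact_iff_function_exact]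
  show Exact ((C.d (i - 1) i).hom.rTensor X) ((C.d i (i + 1)).hom.rTensor X)
  intro z
  constructor
  · intro hz
    have hinj := rTensor_injective r (Submodule.injective_subtype _) (hker (i + 1)) (hp (i + 1)) (hZ' (i + 1 + 1))
    rw [show (C.d i (i + 1)).hom = (LinearMap.ker (C.d (i + 1) (i + 1 + 1)).hom).subtype ∘ₗ p i from rfl,
      LinearMap.rTensor_comp, LinearMap.comp_apply] at hz
    obtain ⟨w, rfl⟩ := (rTensor_exact X (hker i) (hp i) z).1 (hinj (hz.trans (map_zero _).symm))
    let q : C.X (i - 1) →ₗ[R] LinearMap.ker (C.d i (i + 1)).hom :=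
      LinearMap.codRestrict _ (C.d (i - 1) i).hom fun x => (hex i).apply_apply_eq_zero x
    have hq : Surjective q := fun ⟨y, hy⟩ => by
      obtain ⟨x, hx⟩ := (hex i y).1 hy
      exact ⟨x, Subtype.ext hx⟩
    obtain ⟨v, rfl⟩ := LinearMap.rTensor_surjective X hq w
    refine ⟨v, ?_⟩
    rw [← LinearMap.comp_apply, ← LinearMap.rTensor_comp]
    rfl
  · rintro ⟨v, rfl⟩
    rw [← LinearMap.comp_apply, ← LinearMap.rTensor_comp, (hex i).linearMap_comp_eq_zero]
    simp

section Tor

variable (X)

/-- The resolution underlying a projective resolution. -/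
noncomputable def ofProjective (G : ProjectiveResolution (ModuleCat.of R X)) : Res R X where
  G := G.complex.X
  d n := (G.complex.d (n + 1) n).hom
  π := ModuleCat.Hom.hom (A := G.complex.X 0) (B := ModuleCat.of R X) (G.π.f 0)
  flat n := by
    haveI := G.projective n
    haveI : Module.Projective R (G.complex.X n) := (IsProjective.iff_projective _).2 inferInstance
    infer_instance
  exact_d n := (ShortComplex.ShortExact.moduleCat_exact_iff_function_exact _).1 (G.exact_succ n)
  exact_π := (ShortComplex.ShortExact.moduleCat_exact_iff_function_exact _).1 G.exact₀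
  surj := (ModuleCat.epi_iff_surjective _).1 (inferInstance : Epi (G.π.f 0))

theorem indep_of_tor (M : Type u) [AddCommGroup M] [Module R M] (G : ProjectiveResolution (ModuleCat.of R X))
    (h : ∀ p : ℕ, 0 < p →
      Subsingleton (((CategoryTheory.Tor (ModuleCat.{u} R) p).obj (ModuleCat.of R M)).obj (ModuleCat.of R X))) :
    Indep (ofProjective X G) M := fun n => by
  haveI := h (n + 1) n.succ_pos
  have hz : IsZero (((CategoryTheory.Tor (ModuleCat.{u} R) (n + 1)).obj (ModuleCat.of R M)).obj (ModuleCat.of R X)) :=
    ModuleCat.isZero_of_subsingleton _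
  have hz' := hz.of_iso (G.isoLeftDerivedObj (tensorLeft (ModuleCat.of R M)) (n + 1)).symm
  rw [HomologicalComplex.homologyFunctor_obj, ← HomologicalComplex.exactAt_iff_isZero_homology,
    HomologicalComplex.exactAt_iff' (i := n + 2) (j := n + 1) (k := n) _ (by simp) (by simp),
    ShortComplex.ShortExact.moduleCat_exact_iff_function_exact] at hz'
  exact hz'

end Tor

end Groth.Agent.RelPC.Indep
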