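import Groth.Agent.RelPC.BaseChange
import Mathlib.RingTheory.Localization.Away.AdjoinRoot

/-!
# Relative pseudo-coherence and localisation
-/

set_option autoImplicit false
set_option backward.isDefEq.respectTransparency false
set_option backward.defeqAttrib.useBackward true

universe u

open CategoryTheory CategoryTheory.Limits

attribute [local instance] HasDerivedCategory.standard

namespace Groth.Agent.RelPC

open Groth.Agent.DRingLib Groth.Agent.FlatMorPerfect

variable {P : Type u} [CommRing P]

theorem isLeftRegular_C_mul_X_sub_one (F : P) :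
    IsLeftRegular (Polynomial.C F * Polynomial.X - 1 : Polynomial P) := by
  rw [isLeftRegular_iff_right_eq_zero_of_mul]
  intro p hp
  rw [sub_mul, one_mul, sub_eq_zero, mul_assoc] at hp
  ext i
  induction i with
  | zero => rw [← hp]; simp
  | succ i ih => rw [← hp, Polynomial.coeff_C_mul, Polynomial.coeff_X_mul, ih]; simp

/-- The presentation of a localisation. -/
noncomputable def awayPres (F : P) : MvPolynomial (Fin 1) P →ₐ[P] Localization.Away F :=
  MvPolynomial.aeval fun _ => IsLocalization.Away.invSelf F

theorem pcs_awayPres (F : P) : PCS (awayPres F : MvPolynomial (Fin 1) P →+* Localization.Away F) ∧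
    Function.Surjective (awayPres F) := by
  let e := MvPolynomial.uniqueAlgEquiv P (Fin 1)
  let q : Polynomial P →ₐ[P] AdjoinRoot (Polynomial.C F * Polynomial.X - 1 : Polynomial P) := AdjoinRoot.mkₐ _
  let l := (Localization.awayEquivAdjoin F).symm
  have h : awayPres F = (l.toAlgHom.comp q).comp e.toAlgHom := by
    refine MvPolynomial.algHom_ext fun i => ?_
    simp [awayPres, l, q, e, MvPolynomial.uniqueAlgEquiv, Localization.awayEquivAdjoin]
  rw [h]
  refine ⟨?_, (l.surjective.comp AdjoinRoot.mk_surjective).comp e.surjective⟩
  exact (pcs_equiv e.toRingEquiv).comp ((pcs_of_ker AdjoinRoot.mk_surjective _ (isLeftRegular_C_mul_X_sub_one F)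
    Ideal.mk_ker).comp (pcs_equiv l.toRingEquiv))

variable {R A : Type u} [CommRing R] [CommRing A] [Algebra R A]

theorem relModuleAll_away (f : A) :
    DerCA.IsRelPseudoCoherentModuleAll A (Localization.Away f) (Localization.Away f) := fun m =>
  (relModule_iff (awayPres f) (pcs_awayPres f).2 (ModuleCat.of _ (Localization.Away f)) m).2
    (pcs_module (pcs_awayPres f).1 m)

theorem finiteType_away (f : A) : Algebra.FiniteType A (Localization.Away f) :=
  .of_surjective (awayPres f) (pcs_awayPres f).2

/-- Termwise localisation. -/
theorem rel_away [Algebra.FiniteType R A] (g : A) (K : DRing.Cx A) {m : ℤ}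
    (h : DerCA.IsRelPseudoCoherent R A m (DRing.toD K)) :
    DerCA.IsRelPseudoCoherent R (Localization.Away g) m
      (DRing.toD (((ModuleCat.extendScalars (algebraMap A (Localization.Away g))).mapHomologicalComplex
        (ComplexShape.up ℤ)).obj K)) := by
  haveI := finiteType_away g
  haveI : DRing.HasLBaseChange (algebraMap A (Localization.Away g)) := DCat.hasLBaseChange _
  obtain ⟨e⟩ := Groth.Agent.CAlgSmall.PCZariski.nonempty_lbaseChange_iso (algebraMap A (Localization.Away g))
    (RingHom.flat_algebraMap_iff.2 (IsLocalization.flat _ (Submonoid.powers g))) K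
  exact rel_iso e (rel_lbaseChange (relModuleAll_away g) h)

theorem cocartesian_away (φ : P →+* A) (F : P) (g : A) (hg : φ F = g) {P' A' : Type u} [CommRing P'] [CommRing A']
    [Algebra P P'] [Algebra A A'] [IsLocalization.Away F P'] [IsLocalization.Away g A']
    (σ' : P' →+* A')
    (hc : σ'.comp (algebraMap P (P')) = (algebraMap A (A')).comp φ) :
    IsCocartesian P (P') A (A') φ (algebraMap P (P'))
      (algebraMap A (A')) σ' hc := by
  letI := φ.toAlgebra
  letI := σ'.toAlgebra
  letI := ((algebraMap A (A')).comp φ).toAlgebra
  haveI : IsScalarTower P A (A') := .of_algebraMap_eq fun _ => rfl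
  haveI : IsScalarTower P (P') (A') :=
    .of_algebraMap_eq fun x => (RingHom.congr_fun hc x).symm
  haveI : IsLocalization (Algebra.algebraMapSubmonoid A (Submonoid.powers F)) (A') := by
    rw [show Algebra.algebraMapSubmonoid A (Submonoid.powers F) = Submonoid.powers g by
      rw [Algebra.algebraMapSubmonoid, Submonoid.map_powers]; exact congrArg _ hg]
    infer_instance
  have h : Algebra.IsPushout P (P') A (A') :=
    (Algebra.isPushout_of_isLocalization (Submonoid.powers F) (P') A (A')).symm
  unfold IsCocartesian
  convert h using 0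
  congr! 1
  all_goals exact Algebra.algebra_ext _ _ fun _ => rfl

variable {n : ℕ} (α : MvPolynomial (Fin n) R →ₐ[R] A) (hα : Function.Surjective α)

include hα in
theorem pc_away_of_rel (F : MvPolynomial (Fin n) R) (g : A) (hg : α F = g) (K : DRing.Cx A) {m : ℤ}
    (h : DerCA.IsRelPseudoCoherent R (Localization.Away g) m
      (DRing.toD (((ModuleCat.extendScalars (algebraMap A (Localization.Away g))).mapHomologicalComplex
        (ComplexShape.up ℤ)).obj K))) :
    DRing.IsPseudoCoherent (Localization.Away F) m
      (DRing.toD (((ModuleCat.extendScalars (algebraMap (MvPolynomial (Fin n) R) (Localization.Away F))).mapHomologicalComplex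
        (ComplexShape.up ℤ)).obj ((resK (α : MvPolynomial (Fin n) R →+* A)).obj K))) := by
  subst hg
  let σ' : Localization.Away F →+* Localization.Away (α F) :=
    Localization.awayMap (α : MvPolynomial (Fin n) R →+* A) F
  have hc : σ'.comp (algebraMap (MvPolynomial (Fin n) R) (Localization.Away F)) =
      (algebraMap A (Localization.Away (α F))).comp (α : MvPolynomial (Fin n) R →+* A) :=
    RingHom.ext fun x => by simp [σ', IsLocalization.Away.map]
  let Kg := ((ModuleCat.extendScalars.{u, u, u} (algebraMap A (Localization.Away (α F)))).mapHomologicalComplex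
    (ComplexShape.up ℤ)).obj K
  let ρ : DRing.toD (((ModuleCat.extendScalars.{u, u, u} (algebraMap (MvPolynomial (Fin n) R) (Localization.Away F))).mapHomologicalComplex
      (ComplexShape.up ℤ)).obj ((resK (α : MvPolynomial (Fin n) R →+* A)).obj K)) ≅
      (DRing.restrictD σ').obj (DRing.toD Kg) :=
    DerivedCategory.Q.mapIso ((NatIso.mapHomologicalComplex
      (extRestrictIso _ _ _ _ (α : MvPolynomial (Fin n) R →+* A) _ _ σ' hc (cocartesian_away _ F (α F) rfl σ' hc))
        (ComplexShape.up ℤ)).app K) ≪≫
      (((ModuleCat.restrictScalars.{u} σ').mapDerivedCategoryFactors).app Kg).symm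
  refine pc_iso ρ.symm ?_
  have hγ := (rel_iff_comp α hα (awayPres (α F)) (pcs_awayPres (α F)).2 _ m).1 h
  have e : (presComp α (awayPres (α F)) : MvPolynomial (Fin 1) (MvPolynomial (Fin n) R) →+* Localization.Away (α F)) =
      σ'.comp (awayPres F : MvPolynomial (Fin 1) (MvPolynomial (Fin n) R) →+* Localization.Away F) := by
    refine MvPolynomial.ringHom_ext (fun p => ?_) fun i => ?_
    · have := RingHom.congr_fun hc p
      simp [presComp, awayPres] at this ⊢
      exact this.symm
    · simp only [presComp, awayPres, RingHom.coe_comp, Function.comp_apply, AlgHom.coe_toRingHom, RingHom.coe_coe,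
        MvPolynomial.aeval_X, AlgHom.coe_mk, MvPolynomial.map_X]
      simp [σ', IsLocalization.Away.invSelf, Localization.awayMap, IsLocalization.Away.map, IsLocalization.map_mk']
  have i := restrictCompIso (MvPolynomial.map (σ := Fin 1) (α : MvPolynomial (Fin n) R →+* A))
    (awayPres (α F) : MvPolynomial (Fin 1) A →+* Localization.Away (α F))
    (presComp α (awayPres (α F)) : MvPolynomial (Fin 1) (MvPolynomial (Fin n) R) →+* Localization.Away (α F)) rfl
    (DRing.toD Kg)
  exact (pc_restrict_comp_iff (pcs_awayPres F).1 σ' _ e (DRing.toD Kg) m).1 (pc_iso i.symm hγ)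

theorem rel_local_iff [Algebra.FiniteType R A] (K : DRing.Cx A) (m : ℤ) {r : ℕ} (f : Fin r → A)
    (hf : Ideal.span (Set.range f) = ⊤) :
    DerCA.IsRelPseudoCoherent R A m (DRing.toD K) ↔
      ∀ i, DerCA.IsRelPseudoCoherent R (Localization.Away (f i)) m
        (DRing.toD (((ModuleCat.extendScalars (algebraMap A (Localization.Away (f i)))).mapHomologicalComplex
          (ComplexShape.up ℤ)).obj K)) := by
  refine ⟨fun h i => rel_away (f i) K h, fun h => ?_⟩
  obtain ⟨n, α, hα⟩ := exists_presentation (R := R) (A := A)
  obtain ⟨c, hc⟩ := (Submodule.mem_span_range_iff_exists_fun A).1 (hf ▸ Submodule.mem_top : (1 : A) ∈ Ideal.span (Set.range f))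
  choose F hF using fun i => hα (f i)
  choose C hC using fun i => hα (c i)
  let G : MvPolynomial (Fin n) R := 1 - ∑ i, C i * F i
  have hG : α G = 0 := by
    simp only [G, map_sub, map_one, map_sum, map_mul, hC, hF]
    rw [show ∑ i, c i * f i = 1 from hc, sub_self]
  rw [rel_iff α hα]
  refine pc_iso (((ModuleCat.restrictScalars.{u} (α : MvPolynomial (Fin n) R →+* A)).mapDerivedCategoryFactors).app
    K).symm (CAlgSmall.PCZariski.pc_of_localizationAway (Fin.cons G F : Fin (r + 1) → MvPolynomial (Fin n) R) ?_ _ m ?_)
  · rw [Ideal.eq_top_iff_one]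
    have : (1 : MvPolynomial (Fin n) R) = G + ∑ i, C i * F i := by simp [G]
    rw [this]
    exact add_mem (Ideal.subset_span ⟨0, rfl⟩) (Ideal.sum_mem _ fun i _ =>
      Ideal.mul_mem_left _ _ (Ideal.subset_span ⟨i.succ, by simp⟩))
  · refine Fin.cases ?_ (fun i => ?_)
    · refine pc_away_of_rel α hα G 0 hG K ?_
      haveI := finiteType_away (0 : A)
      obtain ⟨k, ψ, hψ⟩ := exists_presentation (R := R) (A := Localization.Away (0 : A))
      refine (rel_iff ψ hψ _ m).2 ?_
      haveI : Subsingleton (Localization.Away (0 : A)) :=
        IsLocalization.subsingleton (M := Submonoid.powers (0 : A)) (Submonoid.mem_powers 0)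
      haveI : ((DRing.restrictD (ψ : MvPolynomial (Fin k) R →+* Localization.Away (0 : A))).obj
          (DRing.toD (((ModuleCat.extendScalars (algebraMap A (Localization.Away (0 : A)))).mapHomologicalComplex
            (ComplexShape.up ℤ)).obj K))).IsLE (m - 1) := by
        refine DerivedCategory.TStructure.t.isLE_of_isZero ((DRing.restrictD _).map_isZero
          (DerivedCategory.Q.map_isZero ((IsZero.iff_id_eq_zero _).2 (HomologicalComplex.hom_ext _ _ fun j => ?_)))) _
        haveI : ∀ M : ModuleCat.{u} (Localization.Away (0 : A)), Subsingleton M :=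
          fun M => Module.subsingleton (Localization.Away (0 : A)) M
        exact (ModuleCat.isZero_of_subsingleton _).eq_of_src _ _
      exact pc_of_isLE (n := m - 1) (by omega)
    · exact pc_away_of_rel α hα (F i) (f i) (hF i) K (h i)

/-- Localisation of the base and of the algebra. -/
theorem rel_away_base (f : R) [Algebra (Localization.Away f) A] [IsScalarTower R (Localization.Away f) A]
    [Algebra.FiniteType (Localization.Away f) A] (g : A) (K : DRing.Cx A) {m : ℤ}
    (h : DerCA.IsRelPseudoCoherent (Localization.Away f) A m (DRing.toD K)) :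
    DerCA.IsRelPseudoCoherent R (Localization.Away g) m
      (DRing.toD (((ModuleCat.extendScalars (algebraMap A (Localization.Away g))).mapHomologicalComplex
        (ComplexShape.up ℤ)).obj K)) := by
  haveI := finiteType_away f
  haveI : Algebra.FiniteType R A := Algebra.FiniteType.trans ‹Algebra.FiniteType R (Localization.Away f)› ‹_›
  exact rel_away g K ((rel_tower_iff (relModuleAll_away f) _ m).1 h)

end Groth.Agent.RelPC
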