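import Groth.Agent.RelPC.Basic
import Groth.Agent.DRingLib.PCMore
import Groth.Agent.DRingLib.PCRes

/-!
# Relative pseudo-coherence: operations
-/

set_option autoImplicit false
set_option backward.isDefEq.respectTransparency false
set_option backward.defeqAttrib.useBackward true

universe u

open CategoryTheory CategoryTheory.Limits CategoryTheory.Pretriangulated MvPolynomial

attribute [local instance] HasDerivedCategory.standard

namespace Groth.Agent.RelPC

open Groth.Agent.DRingLib

variable {A B : Type u} [CommRing A] [CommRing B]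

theorem finite_restrict_of_surjective {φ : A →+* B} (hφ : Function.Surjective φ) (M : ModuleCat.{u} B)
    (h : Module.Finite B M) : Module.Finite A ((ModuleCat.restrictScalars.{u} φ).obj M) := by
  obtain ⟨s, hs⟩ := h.fg_top
  let s' : Finset ((ModuleCat.restrictScalars.{u} φ).obj M : Type u) := s
  refine ⟨⟨s', top_le_iff.1 fun x hx0 => ?_⟩⟩
  clear hx0
  have hx : (x : M) ∈ Submodule.span B (s : Set M) := hs ▸ Submodule.mem_top
  induction hx using Submodule.span_induction with
  | mem y hy => exact Submodule.subset_span hy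
  | zero => exact (Submodule.span A _).zero_mem
  | add y z _ _ hy hz => exact (Submodule.span A _).add_mem hy hz
  | smul b y _ hy =>
    obtain ⟨a, rfl⟩ := hφ b
    exact (Submodule.span A _).smul_mem a hy

theorem finite_restrict_iff {φ : A →+* B} (hφ : Function.Surjective φ) (M : ModuleCat.{u} B) :
    Module.Finite A ((ModuleCat.restrictScalars.{u} φ).obj M) ↔ Module.Finite B M :=
  ⟨finite_of_restrict φ M, finite_restrict_of_surjective hφ M⟩

variable {R : Type u} [CommRing R] [Algebra R A]

/-- The three triangle rules. -/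
theorem rel_cone [Algebra.FiniteType R A] {T : Triangle (Dual.D A)} (hT : T ∈ distinguishedTriangles) {m : ℤ}
    (h₁ : DerCA.IsRelPseudoCoherent R A (m + 1) T.obj₁) (h₂ : DerCA.IsRelPseudoCoherent R A m T.obj₂) :
    DerCA.IsRelPseudoCoherent R A m T.obj₃ := by
  obtain ⟨n, α, hα⟩ := exists_presentation (R := R) (A := A)
  rw [rel_iff α hα] at h₁ h₂ ⊢
  exact pc_cone ((DRing.restrictD (α : MvPolynomial (Fin n) R →+* A)).map_distinguished T hT) h₁ h₂

theorem rel_ext [Algebra.FiniteType R A] {T : Triangle (Dual.D A)} (hT : T ∈ distinguishedTriangles) {m : ℤ}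
    (h₁ : DerCA.IsRelPseudoCoherent R A m T.obj₁) (h₃ : DerCA.IsRelPseudoCoherent R A m T.obj₃) :
    DerCA.IsRelPseudoCoherent R A m T.obj₂ := by
  obtain ⟨n, α, hα⟩ := exists_presentation (R := R) (A := A)
  rw [rel_iff α hα] at h₁ h₃ ⊢
  exact pc_ext ((DRing.restrictD (α : MvPolynomial (Fin n) R →+* A)).map_distinguished T hT) h₁ h₃

theorem rel_fibre [Algebra.FiniteType R A] {T : Triangle (Dual.D A)} (hT : T ∈ distinguishedTriangles) {m : ℤ}
    (h₂ : DerCA.IsRelPseudoCoherent R A (m + 1) T.obj₂) (h₃ : DerCA.IsRelPseudoCoherent R A m T.obj₃) :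
    DerCA.IsRelPseudoCoherent R A (m + 1) T.obj₁ := by
  obtain ⟨n, α, hα⟩ := exists_presentation (R := R) (A := A)
  rw [rel_iff α hα] at h₂ h₃ ⊢
  exact pc_fibre ((DRing.restrictD (α : MvPolynomial (Fin n) R →+* A)).map_distinguished T hT) h₂ h₃

theorem rel_iso {K L : Dual.D A} (e : K ≅ L) {m : ℤ} (h : DerCA.IsRelPseudoCoherent R A m K) :
    DerCA.IsRelPseudoCoherent R A m L := by
  obtain ⟨n, α, hα, h⟩ := h
  exact ⟨n, α, hα, pc_iso ((DRing.restrictD (α : MvPolynomial (Fin n) R →+* A)).mapIso e) h⟩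

theorem rel_mono {K : Dual.D A} {m m' : ℤ} (hm : m ≤ m') (h : DerCA.IsRelPseudoCoherent R A m K) :
    DerCA.IsRelPseudoCoherent R A m' K := by
  obtain ⟨n, α, hα, h⟩ := h
  exact ⟨n, α, hα, pc_mono hm h⟩

theorem rel_retract [Algebra.FiniteType R A] {K L : Dual.D A} (r : Retract K L) {m : ℤ}
    (h : DerCA.IsRelPseudoCoherent R A m L) : DerCA.IsRelPseudoCoherent R A m K := by
  obtain ⟨n, α, hα⟩ := exists_presentation (R := R) (A := A)
  rw [rel_iff α hα] at h ⊢
  exact pc_retract (r.map (DRing.restrictD (α : MvPolynomial (Fin n) R →+* A))) h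

theorem rel_of_terms [Algebra.FiniteType R A] (K : DRing.Cx A) {b : ℤ} (hb : DRing.VanishesAbove K b) {m : ℤ}
    (h : ∀ i, DerCA.IsRelPseudoCoherentModule R A (m - i) (K.X i)) :
    DerCA.IsRelPseudoCoherent R A m (DRing.toD K) := by
  obtain ⟨n, α, hα⟩ := exists_presentation (R := R) (A := A)
  rw [rel_iff α hα]
  refine pc_iso (((ModuleCat.restrictScalars.{u} (α : MvPolynomial (Fin n) R →+* A)).mapDerivedCategoryFactors).app
    K).symm (pc_of_terms ((resK (α : MvPolynomial (Fin n) R →+* A)).obj K) (b := b) ?_ ?_)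
  · exact fun i hi => (ModuleCat.restrictScalars.{u} (α : MvPolynomial (Fin n) R →+* A)).map_isZero (hb i hi)
  · exact fun i => (relModule_iff α hα (K.X i) (m - i)).1 (h i)

theorem rel_of_homology [Algebra.FiniteType R A] {K : Dual.D A} {b : ℤ} (hb : K.IsLE b) {m : ℤ}
    (h : ∀ i, DerCA.IsRelPseudoCoherentModule R A (m - i) (Dual.HD A K i)) :
    DerCA.IsRelPseudoCoherent R A m K := by
  obtain ⟨n, α, hα⟩ := exists_presentation (R := R) (A := A)
  rw [rel_iff α hα]
  exact pc_of_homology ((isLE_restrict_iff _ K b).2 hb) fun i =>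
    pcModule_retract (hfRestrictIso _ K i).retract ((relModule_iff α hα _ (m - i)).1 (h i))

theorem relModule_zero_iff [Algebra.FiniteType R A] (M : Type u) [AddCommGroup M] [Module A M] :
    DerCA.IsRelPseudoCoherentModule R A 0 M ↔ Module.Finite A M := by
  obtain ⟨n, α, hα⟩ := exists_presentation (R := R) (A := A)
  exact (relModule_iff α hα (ModuleCat.of A M) 0).trans
    ((module_pc_zero_iff _).trans (finite_restrict_iff hα (ModuleCat.of A M)))

section Noetherian

variable [IsNoetherianRing R] [Algebra.FiniteType R A]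

theorem rel_noetherian_iff (K : Dual.D A) (m : ℤ) : DerCA.IsRelPseudoCoherent R A m K ↔
    (∃ b : ℤ, K.IsLE b) ∧ ∀ i : ℤ, m ≤ i → Module.Finite A (Dual.HD A K i) := by
  obtain ⟨n, α, hα⟩ := exists_presentation (R := R) (A := A)
  rw [rel_iff α hα]
  constructor
  · intro h
    obtain ⟨⟨b, hb⟩, hf⟩ := finite_homology_of_pc h
    exact ⟨⟨b, (isLE_restrict_iff _ K b).1 hb⟩, fun i hi =>
      finite_of_restrict (α : MvPolynomial (Fin n) R →+* A) _ (finite_of_iso (hfRestrictIso _ K i) (hf i hi))⟩
  · rintro ⟨⟨b, hb⟩, hf⟩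
    exact pc_of_finite_homology ((isLE_restrict_iff _ K b).2 hb) fun i hi =>
      finite_of_iso (hfRestrictIso _ K i).symm (finite_restrict_of_surjective hα _ (hf i hi))

theorem relModuleAll_noetherian_iff (M : Type u) [AddCommGroup M] [Module A M] :
    DerCA.IsRelPseudoCoherentModuleAll R A M ↔ Module.Finite A M := by
  refine ⟨fun h => (relModule_zero_iff M).1 (h 0), fun h m => ?_⟩
  refine (rel_noetherian_iff (Dual.inD A M) m).2 ⟨⟨0, inferInstanceAs
    (((DerivedCategory.singleFunctor (ModuleCat.{u} A) 0).obj (ModuleCat.of A M)).IsLE 0)⟩, fun i _ => ?_⟩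
  by_cases hi : i = 0
  · subst hi
    exact finite_of_iso (hfInD M).symm h
  · have hz : IsZero ((HF A i).obj (Dual.inD A M)) := by
      haveI : (Dual.inD A M).IsLE 0 := inferInstanceAs
        (((DerivedCategory.singleFunctor (ModuleCat.{u} A) 0).obj (ModuleCat.of A M)).IsLE 0)
      haveI : (Dual.inD A M).IsGE 0 := inferInstanceAs
        (((DerivedCategory.singleFunctor (ModuleCat.{u} A) 0).obj (ModuleCat.of A M)).IsGE 0)
      rcases lt_or_gt_of_ne hi with h' | h'
      · exact DerivedCategory.isZero_of_isGE _ 0 i h'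
      · exact DerivedCategory.isZero_of_isLE _ 0 i h'
    haveI := ModuleCat.subsingleton_of_isZero hz
    exact (inferInstanceAs (Module.Finite A ((HF A i).obj (Dual.inD A M))))

end Noetherian

end Groth.Agent.RelPC
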