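import Groth.Agent.RelPC.Basic
import Groth.Agent.DCat.LTensorModule
import Groth.Agent.DRingLib.PCDescent

/-!
# Tensoring a relatively pseudo-coherent complex with a pseudo-coherent module
-/

set_option autoImplicit false
set_option backward.isDefEq.respectTransparency false
set_option backward.defeqAttrib.useBackward true

universe u

open CategoryTheory CategoryTheory.Limits CategoryTheory.Pretriangulated MonoidalCategory

attribute [local instance] HasDerivedCategory.standard

namespace Groth.Agent.RelPC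

open Groth.Agent.DRingLib Groth.Agent.FlatMorPerfect

variable {P Q : Type u} [CommRing P] [CommRing Q] (σ : P →+* Q) (L : DRing.Cx Q)

/-- `L ⊗ M` restricted to `P`. -/
noncomputable abbrev tensD (M : ModuleCat.{u} Q) : Dual.D P :=
  (DRing.restrictD σ).obj (DRing.toD (DRing.tensorCx L M))

theorem exists_tensor_triangle (hf : DRing.TermwiseFlat L) {N F M : Type u} [AddCommGroup N] [Module Q N]
    [AddCommGroup F] [Module Q F] [AddCommGroup M] [Module Q M] {f : N →ₗ[Q] F} {g : F →ₗ[Q] M}
    (hfg : Function.Exact f g) (hg : Function.Surjective g) (hfi : Function.Injective f) :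
    ∃ T : Triangle (Dual.D P), T ∈ distinguishedTriangles ∧ T.obj₁ = tensD σ L (ModuleCat.of Q N) ∧
      T.obj₂ = tensD σ L (ModuleCat.of Q F) ∧ T.obj₃ = tensD σ L (ModuleCat.of Q M) := by
  let F₁ := (NatTrans.mapHomologicalComplex ((tensoringRight (ModuleCat.{u} Q)).map (ModuleCat.ofHom f))
    (ComplexShape.up ℤ)).app L
  let F₂ := (NatTrans.mapHomologicalComplex ((tensoringRight (ModuleCat.{u} Q)).map (ModuleCat.ofHom g))
    (ComplexShape.up ℤ)).app L
  have hw : ∀ n, F₁.f n ≫ F₂.f n = 0 := fun n => by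
    refine ModuleCat.hom_ext (TensorProduct.ext' fun x y => ?_)
    show x ⊗ₜ[Q] g (f y) = 0
    rw [hfg.apply_apply_eq_zero, TensorProduct.tmul_zero]
  let S : ShortComplex (DRing.Cx Q) := ShortComplex.mk F₁ F₂ (HomologicalComplex.hom_ext _ _ hw)
  have hS : S.ShortExact := HomologicalComplex.shortExact_of_degreewise_shortExact _ fun n => by
    haveI := hf n
    exact
      { exact := (ShortComplex.ShortExact.moduleCat_exact_iff_function_exact _).2
          (lTensor_exact (L.X n) hfg hg)
        mono_f := (ModuleCat.mono_iff_injective _).2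
          (Module.Flat.lTensor_preserves_injective_linearMap f hfi)
        epi_g := (ModuleCat.epi_iff_surjective _).2 (LinearMap.lTensor_surjective (L.X n) hg) }
  exact ⟨_, (DRing.restrictD σ).map_distinguished _ (DerivedCategory.triangleOfSES_distinguished hS), rfl, rfl, rfl⟩

theorem pc_tensD_congr {M M' : ModuleCat.{u} Q} (e : M ≅ M') {m : ℤ}
    (h : DRing.IsPseudoCoherent P m (tensD σ L M)) : DRing.IsPseudoCoherent P m (tensD σ L M') :=
  pc_iso ((DRing.restrictD σ).mapIso (DerivedCategory.Q.mapIso
    ((NatIso.mapHomologicalComplex ((tensoringRight (ModuleCat.{u} Q)).mapIso e) (ComplexShape.up ℤ)).app L))) h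

variable {b m : ℤ} (hb : DRing.VanishesAbove L b) (hf : DRing.TermwiseFlat L)
  (hL : DRing.IsPseudoCoherent P m ((DRing.restrictD σ).obj (DRing.toD L)))

include hb in
theorem isLE_tensD (M : ModuleCat.{u} Q) : (tensD σ L M).IsLE b := by
  refine (isLE_restrict_iff σ _ b).2 ?_
  exact DCat.isLE_Q_of_vanishesAbove (K := DRing.tensorCx L M) fun i hi => (tensorRight M).map_isZero (hb i hi)

include hf hL in
theorem pc_tensD_free : ∀ r : ℕ, DRing.IsPseudoCoherent P m (tensD σ L (ModuleCat.of Q (Fin r → Q)))
  | 0 => by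
    have hz : IsZero (DRing.tensorCx L (ModuleCat.of Q (Fin 0 → Q))) := by
      refine (IsZero.iff_id_eq_zero _).2 (HomologicalComplex.hom_ext _ _ fun n => ?_)
      refine ModuleCat.hom_ext (TensorProduct.ext' fun x y => ?_)
      show x ⊗ₜ[Q] y = 0
      rw [Subsingleton.elim y 0, TensorProduct.tmul_zero]
    haveI : (tensD σ L (ModuleCat.of Q (Fin 0 → Q))).IsLE (m - 1) := DerivedCategory.TStructure.t.isLE_of_isZero
      ((DRing.restrictD σ).map_isZero (DerivedCategory.Q.map_isZero hz)) _
    exact pc_of_isLE (n := m - 1) (by omega)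
  | r + 1 => by
    let f : Q →ₗ[Q] (Fin (r + 1) → Q) := LinearMap.single Q (fun _ => Q) 0
    let g : (Fin (r + 1) → Q) →ₗ[Q] (Fin r → Q) := LinearMap.funLeft Q Q Fin.succ
    have hfg : Function.Exact f g := fun x => by
      constructor
      · intro hx
        refine ⟨x 0, funext fun i => ?_⟩
        refine Fin.cases ?_ (fun j => ?_) i
        · simp [f]
        · simpa [f, g, LinearMap.funLeft, Fin.succ_ne_zero] using (congrFun hx j).symm
      · rintro ⟨b, rfl⟩
        funext j
        simp [f, g, LinearMap.funLeft, Fin.succ_ne_zero]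
    have hg : Function.Surjective g := fun y => ⟨Fin.cons 0 y, funext fun j => by simp [g, LinearMap.funLeft]⟩
    have hfi : Function.Injective f := fun x y hxy => by simpa [f] using congrFun hxy 0
    obtain ⟨T, hT, h1, h2, h3⟩ := exists_tensor_triangle σ L hf hfg hg hfi
    rw [← h2]
    refine pc_ext hT ?_ (h3 ▸ pc_tensD_free r)
    rw [h1]
    exact pc_iso ((DRing.restrictD σ).mapIso (DerivedCategory.Q.mapIso
      ((NatIso.mapHomologicalComplex (rightUnitorNatIso (ModuleCat.{u} Q)) (ComplexShape.up ℤ)).app L).symm)) (pc_iso ((DRing.restrictD σ).mapIso (DerivedCategory.Q.mapIso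
        ((Functor.mapHomologicalComplexIdIso (ModuleCat.{u} Q) (ComplexShape.up ℤ)).app L).symm)) hL)

include hb hf hL in
theorem pc_tensD : ∀ (k : ℕ) (M : Type u) [AddCommGroup M] [Module Q M], PC Q k M →
    DRing.IsPseudoCoherent P (max m (b + 1 - k)) (tensD σ L (ModuleCat.of Q M))
  | 0, M, _, _, _ => by
    haveI := isLE_tensD σ L hb (ModuleCat.of Q M)
    exact pc_of_isLE (n := b) (by omega)
  | k + 1, M, _, _, h => by
    obtain ⟨r, g, hg, hk⟩ := pc_succ_iff.1 h
    obtain ⟨T, hT, h1, h2, h3⟩ := exists_tensor_triangle σ L hf (LinearMap.exact_subtype_ker_map g) hg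
      (Submodule.injective_subtype _)
    rw [← h3]
    refine pc_cone hT (h1 ▸ pc_mono ?_ (pc_tensD k _ hk)) (h2 ▸ pc_mono ?_ (pc_tensD_free σ L hf hL r))
    · omega
    · exact le_max_left _ _

include hb hf hL in
theorem pc_tensD_all (M : Type u) [AddCommGroup M] [Module Q M] (h : ∀ k, PC Q k M) :
    DRing.IsPseudoCoherent P m (tensD σ L (ModuleCat.of Q M)) :=
  pc_mono (by omega) (pc_tensD σ L hb hf hL (b + 1 - m).toNat M (h _))

end Groth.Agent.RelPC
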