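import Groth.Agent.RelPC.BaseChange
import Groth.Agent.RelPC.Indep

/-!
# Relative pseudo-coherence and Tor-independent change of the base ring
-/

set_option autoImplicit false
set_option backward.isDefEq.respectTransparency false
set_option backward.defeqAttrib.useBackward true

universe u

open CategoryTheory CategoryTheory.Limits CategoryTheory.Pretriangulated MonoidalCategory TensorProduct MvPolynomial

attribute [local instance] HasDerivedCategory.standard MvPolynomial.algebraMvPolynomial

namespace Groth.Agent.RelPC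

open Groth.Agent.DRingLib Groth.Agent.FlatMorPerfect
open scoped ZeroObject

variable {R R' : Type u} [CommRing R] [CommRing R'] [Algebra R R']

theorem indep_of_split (r : Indep.Res R R') {M M₁ M₂ : ModuleCat.{u} R} (p₁ : M ⟶ M₁) (i₁ : M₁ ⟶ M)
    (p₂ : M ⟶ M₂) (i₂ : M₂ ⟶ M) (h : p₁ ≫ i₁ + p₂ ≫ i₂ = 𝟙 M) (h₁ : Indep.Indep r M₁) (h₂ : Indep.Indep r M₂) :
    Indep.Indep r M := fun n z => by
  constructor
  · intro hz
    have hk : ∀ {M' : ModuleCat.{u} R} (p : M ⟶ M'), (r.d n).lTensor M' (p.hom.rTensor _ z) = 0 := fun p => by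
      rw [← LinearMap.comp_apply, LinearMap.lTensor_comp_rTensor, ← LinearMap.rTensor_comp_lTensor,
        LinearMap.comp_apply, hz, map_zero]
    obtain ⟨w₁, hw₁⟩ := (h₁ n _).1 (hk p₁)
    obtain ⟨w₂, hw₂⟩ := (h₂ n _).1 (hk p₂)
    refine ⟨i₁.hom.rTensor _ w₁ + i₂.hom.rTensor _ w₂, ?_⟩
    have e : ∀ {M' : ModuleCat.{u} R} (i : M' ⟶ M) (w : M' ⊗[R] r.G (n + 1 + 1)),
        (r.d (n + 1)).lTensor M (i.hom.rTensor _ w) = i.hom.rTensor _ ((r.d (n + 1)).lTensor M' w) := fun i w => by
      rw [← LinearMap.comp_apply, LinearMap.lTensor_comp_rTensor, ← LinearMap.rTensor_comp_lTensor, LinearMap.comp_apply]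
    rw [map_add, e, e, hw₁, hw₂, ← LinearMap.comp_apply, ← LinearMap.comp_apply, ← LinearMap.rTensor_comp,
      ← LinearMap.rTensor_comp, ← LinearMap.add_apply, ← LinearMap.rTensor_add, ← ModuleCat.hom_comp,
      ← ModuleCat.hom_comp, ← ModuleCat.hom_add, h, ModuleCat.hom_id, LinearMap.rTensor_id, LinearMap.id_apply]
  · rintro ⟨b, rfl⟩
    rw [← LinearMap.comp_apply, ← LinearMap.lTensor_comp, (r.exact_d n).linearMap_comp_eq_zero]
    simp

/-- Exactness of the scalar extension of a bounded above acyclic complex with independent terms. -/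
theorem exactAt_ext_of_indep (r : Indep.Res R R') (C : DRing.Cx R) (b : ℤ) (hb : DRing.VanishesAbove C b)
    (hac : ∀ i, C.ExactAt i) (hC : ∀ i, Indep.Indep r (C.X i)) (i : ℤ) :
    (((ModuleCat.extendScalars.{u, u, u} (algebraMap R R')).mapHomologicalComplex (ComplexShape.up ℤ)).obj C).ExactAt i := by
  have h := Indep.exactAt_tensor r C b hb hac hC i
  rw [HomologicalComplex.exactAt_iff] at h ⊢
  refine (ShortComplex.exact_map_iff_of_faithful _ (ModuleCat.restrictScalars.{u} (algebraMap R R'))).1 ?_
  let e : ModuleCat.of R R' ≅ (ModuleCat.restrictScalars.{u} (algebraMap R R')).obj (ModuleCat.of R' R') :=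
    LinearEquiv.toModuleIso (X₁ := ModuleCat.of R R')
      (X₂ := (ModuleCat.restrictScalars.{u} (algebraMap R R')).obj (ModuleCat.of R' R'))
      { AddEquiv.refl R' with map_smul' := fun a b => Algebra.smul_def (R := R) (A := R') a b }
  let ε : tensorRight (ModuleCat.of R R') ≅
      ModuleCat.extendScalars (algebraMap R R') ⋙ ModuleCat.restrictScalars (algebraMap R R') :=
    (tensoringRight (ModuleCat.{u} R)).mapIso e ≪≫
      (BraidedCategory.tensorLeftIsoTensorRight _).symm ≪≫ DCat.restrictExtIso (algebraMap R R')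
  exact ShortComplex.exact_of_iso ((HomologicalComplex.shortComplexFunctor _ _ i).mapIso
    ((NatIso.mapHomologicalComplex ε (ComplexShape.up ℤ)).app C)) h

variable {A : Type u} [CommRing A] [Algebra R A]

theorem rel_torBase [Algebra.FiniteType R A]
    (htor : ∀ p : ℕ, 0 < p → Subsingleton (DRing.Tor R p A R'))
    [DRing.HasLBaseChange (Algebra.TensorProduct.includeRight : A →ₐ[R] TensorProduct R R' A).toRingHom]
    {K : Dual.D A} {m : ℤ} (hK : DerCA.IsRelPseudoCoherent R A m K) :
    DerCA.IsRelPseudoCoherent R' (TensorProduct R R' A) m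
      ((DRing.LBaseChange (Algebra.TensorProduct.includeRight : A →ₐ[R] TensorProduct R R' A).toRingHom).obj K) := by
  let φ : A →+* R' ⊗[R] A := (Algebra.TensorProduct.includeRight : A →ₐ[R] TensorProduct R R' A).toRingHom
  obtain ⟨n, α, hα⟩ := exists_presentation (R := R) (A := A)
  rw [rel_iff α hα] at hK
  letI : Algebra A (R' ⊗[R] A) := φ.toAlgebra
  haveI : IsScalarTower R A (R' ⊗[R] A) := .of_algebraMap_eq fun x =>
    ((Algebra.TensorProduct.includeRight : A →ₐ[R] R' ⊗[R] A).commutes x).symm
  haveI hAA : Algebra.IsPushout R R' A (R' ⊗[R] A) := by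
    convert (inferInstance : Algebra.IsPushout R R' A (R' ⊗[R] A))
  let α' : MvPolynomial (Fin n) R' →ₐ[R'] R' ⊗[R] A := MvPolynomial.aeval fun i => φ (α (X i))
  let τ : MvPolynomial (Fin n) R →+* MvPolynomial (Fin n) R' := MvPolynomial.map (algebraMap R R')
  have hc : (α' : MvPolynomial (Fin n) R' →+* R' ⊗[R] A).comp τ =
      φ.comp (α : MvPolynomial (Fin n) R →+* A) := by
    refine MvPolynomial.ringHom_ext (fun a => ?_) fun i => ?_
    · show α' (MvPolynomial.map (algebraMap R R') (C a)) = φ (α (C a))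
      rw [map_C, ← MvPolynomial.algebraMap_eq, ← MvPolynomial.algebraMap_eq, α'.commutes, α.commutes,
        ← IsScalarTower.algebraMap_apply]
      exact ((Algebra.TensorProduct.includeRight : A →ₐ[R] R' ⊗[R] A).commutes a).symm
    · show α' (MvPolynomial.map (algebraMap R R') (X i)) = φ (α (X i))
      rw [map_X]; simp [α']
  have hα' : Function.Surjective α' := fun y => by
    induction y using TensorProduct.induction_on with
    | zero => exact ⟨0, map_zero _⟩
    | add a b ha hb =>
      obtain ⟨u, rfl⟩ := ha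
      obtain ⟨v, rfl⟩ := hb
      exact ⟨u + v, map_add _ _ _⟩
    | tmul s a =>
      obtain ⟨q, rfl⟩ := hα a
      refine ⟨C s * τ q, ?_⟩
      rw [map_mul, ← MvPolynomial.algebraMap_eq, α'.commutes,
        show α' (τ q) = φ (α q) from RingHom.congr_fun hc q]
      simp [φ, Algebra.TensorProduct.algebraMap_apply]
  have hp : IsCocartesian (MvPolynomial (Fin n) R) (MvPolynomial (Fin n) R') A (R' ⊗[R] A)
      (α : MvPolynomial (Fin n) R →+* A) τ φ (α' : MvPolynomial (Fin n) R' →+* R' ⊗[R] A) hc := by
    letI := (α : MvPolynomial (Fin n) R →+* A).toAlgebra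
    letI := (α' : MvPolynomial (Fin n) R' →+* R' ⊗[R] A).toAlgebra
    letI := (φ.comp (α : MvPolynomial (Fin n) R →+* A)).toAlgebra
    haveI : IsScalarTower R (MvPolynomial (Fin n) R) A := .of_algHom α
    haveI : IsScalarTower R' (MvPolynomial (Fin n) R') (R' ⊗[R] A) := .of_algHom α'
    haveI : IsScalarTower (MvPolynomial (Fin n) R) A (R' ⊗[R] A) := .of_algebraMap_eq fun _ => rfl
    haveI : IsScalarTower (MvPolynomial (Fin n) R) (MvPolynomial (Fin n) R') (R' ⊗[R] A) :=
      .of_algebraMap_eq fun x => (RingHom.congr_fun hc x).symm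
    haveI : IsScalarTower R (MvPolynomial (Fin n) R) (R' ⊗[R] A) := .of_algebraMap_eq fun a => by
      show _ = φ (α (algebraMap R _ a))
      rw [α.commutes]
      exact IsScalarTower.algebraMap_apply R A (R' ⊗[R] A) a
    haveI : IsScalarTower R (MvPolynomial (Fin n) R') (R' ⊗[R] A) := .of_algebraMap_eq fun a => by
      show _ = α' (algebraMap R _ a)
      rw [IsScalarTower.algebraMap_apply R R' (MvPolynomial (Fin n) R'), α'.commutes,
        ← IsScalarTower.algebraMap_apply]
    have h : Algebra.IsPushout (MvPolynomial (Fin n) R) (MvPolynomial (Fin n) R') A (R' ⊗[R] A) :=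
      ((Algebra.IsPushout.comp_iff (R := R) (S := MvPolynomial (Fin n) R) (R' := R')
        (S' := MvPolynomial (Fin n) R') (T := A) (T' := R' ⊗[R] A)).1 hAA.symm).symm
    unfold IsCocartesian
    convert h using 0
  obtain ⟨b, hb'⟩ := exists_isLE_of_pc hK
  haveI := (isLE_restrict_iff _ K b).1 hb'
  obtain ⟨L₀, hL₀k, hL₀f, hL₀b, ⟨e⟩⟩ := DCat.exists_flat_rep (b := b) (K := K)
    fun i hi => DerivedCategory.isZero_of_isLE K b i hi
  let M₀ := (resK (α : MvPolynomial (Fin n) R →+* A)).obj L₀
  obtain ⟨N, c, hNk, hNf, hcq, hNb⟩ := DCat.exists_kflat_le M₀ b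
    fun i hi => (ModuleCat.restrictScalars.{u} (α : MvPolynomial (Fin n) R →+* A)).map_isZero (hL₀b i hi)
  haveI := hcq
  let G := (ModuleCat.extendScalars.{u, u, u} τ).mapHomologicalComplex (ComplexShape.up ℤ)
  let F := ModuleCat.restrictScalars.{u} (algebraMap R (MvPolynomial (Fin n) R))
  let r := Indep.ofProjective R' (projectiveResolution (ModuleCat.of R R'))
  have hrA : Indep.Indep r A := Indep.indep_of_tor R' A _ htor
  let Cn := CochainComplex.mappingCone c
  have hCac : ∀ i, Cn.ExactAt i := by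
    haveI : IsIso (DerivedCategory.Q.map c) := inferInstance
    have hz : IsZero (DerivedCategory.Q.obj Cn) :=
      (Triangle.isZero₃_iff_isIso₁ _ (DerivedCategory.mappingCone_triangle_distinguished c)).2 (by assumption)
    exact fun i => (DCat.isZero_homology_toD_iff _ i).1
      ((DerivedCategory.homologyFunctor (ModuleCat.{u} (MvPolynomial (Fin n) R)) i).map_isZero hz)
  have hCb : DRing.VanishesAbove Cn b := fun i hi => by
    refine (IsZero.iff_id_eq_zero _).2 ?_
    rw [← CochainComplex.mappingCone.id_X c i (i + 1) rfl,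
      ((hNb (i + 1) (by omega)).eq_of_src ((CochainComplex.mappingCone.inl c).v (i + 1) i (by omega)) 0),
      (((ModuleCat.restrictScalars.{u} (α : MvPolynomial (Fin n) R →+* A)).map_isZero (hL₀b i hi)).eq_of_src
        ((CochainComplex.mappingCone.inr c).f i) 0), comp_zero, comp_zero, add_zero]
  have hN : ∀ i, Indep.Indep r (F.obj (N.X i)) := fun i => by
    letI : Module R (N.X i) := Module.compHom (N.X i) (algebraMap R (MvPolynomial (Fin n) R))
    haveI : IsScalarTower R (MvPolynomial (Fin n) R) (N.X i) := ⟨fun a p x => by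
      show (a • p) • x = algebraMap R (MvPolynomial (Fin n) R) a • (p • x)
      rw [Algebra.smul_def, mul_smul]⟩
    haveI := hNf i
    haveI : Module.Flat R (N.X i) := Module.Flat.trans R (MvPolynomial (Fin n) R) (N.X i)
    exact Indep.indep_of_flat r (N.X i)
  have hM : ∀ i, Indep.Indep r (F.obj (M₀.X i)) := fun i => by
    letI : Module R (L₀.X i) :=
      Module.compHom (L₀.X i) ((α : MvPolynomial (Fin n) R →+* A).comp (algebraMap R (MvPolynomial (Fin n) R)))
    haveI : IsScalarTower R A (L₀.X i) := ⟨fun a p x => by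
      show (a • p) • x = α (algebraMap R (MvPolynomial (Fin n) R) a) • (p • x)
      rw [α.commutes, Algebra.smul_def, mul_smul]⟩
    haveI := hL₀f i
    exact Indep.indep_of_flat_algebra r hrA (L₀.X i)
  have hqiso : IsIso (DerivedCategory.Q.map (G.map c)) := by
    refine (Triangle.isZero₃_iff_isIso₁ _ (DerivedCategory.mappingCone_triangle_distinguished (G.map c))).1 ?_
    have hex : ∀ i, (G.obj Cn).ExactAt i := fun i => by
      rw [HomologicalComplex.exactAt_iff]
      refine (ShortComplex.exact_map_iff_of_faithful _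
        (ModuleCat.restrictScalars.{u} (algebraMap R' (MvPolynomial (Fin n) R')))).1 ?_
      have h := exactAt_ext_of_indep r ((F.mapHomologicalComplex (ComplexShape.up ℤ)).obj Cn) b
        (fun j hj => F.map_isZero (hCb j hj))
        (fun j => by
          rw [HomologicalComplex.exactAt_iff]
          exact ((HomologicalComplex.exactAt_iff _ _).1 (hCac j)).map F)
        (fun j => indep_of_split r (F.map ((CochainComplex.mappingCone.fst c).1.v j (j + 1) rfl))
          (F.map ((CochainComplex.mappingCone.inl c).v (j + 1) j (by omega)))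
          (F.map ((CochainComplex.mappingCone.snd c).v j j (add_zero j)))
          (F.map ((CochainComplex.mappingCone.inr c).f j))
          (by rw [← F.map_comp, ← F.map_comp, ← F.map_add, CochainComplex.mappingCone.id_X]; exact F.map_id _)
          (hN (j + 1)) (hM j)) i
      rw [HomologicalComplex.exactAt_iff] at h
      exact ShortComplex.exact_of_iso ((HomologicalComplex.shortComplexFunctor _ _ i).mapIso
        ((NatIso.mapHomologicalComplex (extRestrictIso R R' (MvPolynomial (Fin n) R) (MvPolynomial (Fin n) R') _ _ τ _ _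
          (isCocartesian R R' (MvPolynomial (Fin n) R) (MvPolynomial (Fin n) R'))) (ComplexShape.up ℤ)).app Cn)) h
    have hz : IsZero (DerivedCategory.Q.obj (G.obj Cn)) := by
      haveI : QuasiIso (0 : G.obj Cn ⟶ 0) := ⟨fun i => (quasiIsoAt_iff_exactAt _ i (hex i)).2
        (HomologicalComplex.ExactAt.of_isZero ((HomologicalComplex.eval _ _ i).map_isZero (isZero_zero _)))⟩
      exact (DerivedCategory.Q.map_isZero (isZero_zero _)).of_iso (asIso (DerivedCategory.Q.map (0 : G.obj Cn ⟶ 0)))
    exact hz.of_iso (DerivedCategory.Q.mapIso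
      (CochainComplex.mappingCone.mapHomologicalComplexIso c (ModuleCat.extendScalars.{u, u, u} τ))).symm
  haveI : DRing.HasLBaseChange τ := DCat.hasLBaseChange _
  have h1 := CAlgSmall.PCBundle.pc_lbaseChange τ
    (pc_iso ((DRing.restrictD _).mapIso e.symm ≪≫
      ((ModuleCat.restrictScalars.{u} (α : MvPolynomial (Fin n) R →+* A)).mapDerivedCategoryFactors).app L₀ ≪≫
      (asIso (DerivedCategory.Q.map c)).symm) hK)
  rw [rel_iff α' hα']
  refine pc_iso (DCat.lbaseChangeIso τ hNk ≪≫ @asIso _ _ _ _ (DerivedCategory.Q.map (G.map c)) hqiso ≪≫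
    DerivedCategory.Q.mapIso ((NatIso.mapHomologicalComplex (extRestrictIso _ _ _ _ _ _ φ _ hc hp)
      (ComplexShape.up ℤ)).app L₀) ≪≫
    (((ModuleCat.restrictScalars.{u} (α' : MvPolynomial (Fin n) R' →+* R' ⊗[R] A)).mapDerivedCategoryFactors).app
      (((ModuleCat.extendScalars.{u, u, u} φ).mapHomologicalComplex (ComplexShape.up ℤ)).obj L₀)).symm ≪≫
    (DRing.restrictD _).mapIso ((DCat.lbaseChangeIso φ hL₀k).symm ≪≫ (DRing.LBaseChange φ).mapIso e)) h1

end Groth.Agent.RelPC
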